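import Groth.Agent.ObsBoundLib.Push
import Groth.Agent.RegPointLib.Smooth
import Groth.Agent.ArtFunLib.Pres
import Groth.Agent.ArtFunLib.Hull
import Groth.Agent.HilbPointLib.Cotangent

/-! Obstructions bound the number of relations of a versal ring. -/

set_option autoImplicit false
set_option backward.isDefEq.respectTransparency false
set_option backward.isDefEq.respectTransparency.types false
set_option linter.style.haveILetI false

universe u v w

open CategoryTheory ArtFun ArtFun.Art IsLocalRing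

noncomputable section

namespace Groth.Agent.ObsBoundLib

open ArtFunLib

variable {k : Type u} [Field k]

/-- `F` has obstructions in `V`, linearly in the functionals on the kernels. -/
def HasObs (F : Art k k ⥤ Type v) (V : Type w) [AddCommGroup V] [Module k V] : Prop :=
  ∀ ⦃B A : Art k k⦄ (q : B ⟶ A), IsSemismallExt q → ∀ s : F.obj A, ∃ ob : Module.Dual k (kerQ q) →ₗ[k] V,
    ∀ l, l ≠ 0 → ob l = 0 → ∃ (B' : Art k k) (π : B ⟶ B') (p : B' ⟶ A), π ≫ p = q ∧ IsSmallExt p ∧
      (∃ x : kerQ q, π x.1 ≠ 0) ∧ ∃ s' : F.obj B', F.map p s' = s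

theorem isSmoothFunctor_of_free {d : ℕ} (S : CRing k k) (X : ULift.{u} (Fin d) → S.carrier) (hX : ∀ i, S.res (X i) = 0)
    (hfree : ∀ (A : Art k k) (b : ULift.{u} (Fin d) → A), (∀ i, A.res (b i) = 0) →
      ∃! φ : HomSet S.carrier S.res A, ∀ i, φ.1 (X i) = b i) : IsSmoothFunctor (hR S.carrier S.res) := by
  intro B A μ hμ φ
  choose b hb using fun i => hμ ((φ : HomSet S.carrier S.res A).1 (X i))
  have hb0 : ∀ i, B.res (b i) = 0 := fun i => by
    rw [← Art.res_app μ (b i), hb]
    exact (res_homSet _ _).trans (hX i)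
  obtain ⟨ψ, hψ, -⟩ := hfree B b hb0
  obtain ⟨φ₀, -, hu⟩ := hfree A (fun i => φ.1 (X i)) fun i => (res_homSet _ _).trans (hX i)
  refine ⟨ψ, (hu _ fun i => ?_).trans (hu φ fun i => rfl).symm⟩
  show μ (ψ.1 (X i)) = φ.1 (X i)
  rw [hψ, hb]

theorem linIdeal_eq (S : CRing k k) : linIdeal S = maximalIdeal S.carrier ^ 2 := by
  rw [linIdeal, (RingHom.injective_iff_ker_eq_bot _).1 (algebraMap k k).injective, Ideal.map_bot, sup_bot_eq]

theorem spanFinrank_map_maximal {S R : CRing k k} (π : S.carrier →ₐ[k] R.carrier) (hs : Function.Surjective π)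
    (hker : RingHom.ker π ≤ maximalIdeal S.carrier ^ 2) :
    (maximalIdeal R.carrier).spanFinrank = (maximalIdeal S.carrier).spanFinrank := by
  have hm : (maximalIdeal S.carrier).map π.toRingHom = maximalIdeal R.carrier :=
    (Ideal.map_eq_top_or_isMaximal_of_surjective π.toRingHom hs (maximalIdeal.isMaximal _)).resolve_left (fun h => by
      have h1 : (maximalIdeal S.carrier).map π.toRingHom = ⊤ := h
      have h2 := congrArg (Ideal.comap π.toRingHom) h1
      rw [Ideal.comap_map_of_surjective' π.toRingHom hs, Ideal.comap_top] at h2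
      exact (maximalIdeal.isMaximal S.carrier).ne_top (top_le_iff.1 (h2.ge.trans (sup_le le_rfl
        (hker.trans (Ideal.pow_le_self two_ne_zero)))))) |> IsLocalRing.eq_maximalIdeal
  classical
  refine le_antisymm ?_ ?_
  · obtain ⟨t, ht, hts⟩ := Submodule.FG.exists_span_finset_card_eq_spanFinrank (IsNoetherian.noetherian (maximalIdeal S.carrier))
    have : maximalIdeal R.carrier = Ideal.span ((t.image π : Finset R.carrier) : Set R.carrier) := by
      rw [← hm, show maximalIdeal S.carrier = Ideal.span (t : Set S.carrier) from hts.symm, Ideal.map_span, Finset.coe_image]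
      rfl
    rw [this, ← ht]
    exact (Submodule.spanFinrank_span_le_ncard_of_finite (Finset.finite_toSet _)).trans
      (by rw [Set.ncard_coe_finset]; exact Finset.card_image_le)
  · obtain ⟨t, ht, hts⟩ := Submodule.FG.exists_span_finset_card_eq_spanFinrank (IsNoetherian.noetherian (maximalIdeal R.carrier))
    choose g hg using hs
    let N : Ideal S.carrier := Ideal.span ((t.image g : Finset S.carrier) : Set S.carrier)
    have hgm : N ≤ maximalIdeal S.carrier := Ideal.span_le.2 fun x hx => by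
      obtain ⟨y, hy, rfl⟩ := Finset.mem_image.1 hx
      by_contra h
      have hu := (notMem_maximalIdeal.1 h).map π.toRingHom
      rw [show π.toRingHom (g y) = y from hg y] at hu
      exact (IsLocalRing.mem_maximalIdeal y).1 (by rw [← hts]; exact Submodule.subset_span hy) hu
    have hle : maximalIdeal S.carrier ≤ N ⊔ maximalIdeal S.carrier • maximalIdeal S.carrier := fun x hx => by
      have h1 : π x ∈ N.map π.toRingHom := by
        rw [Ideal.map_span, Finset.coe_image, ← Set.image_comp, show π.toRingHom ∘ g = id from funext hg, Set.image_id,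
          show Ideal.span (t : Set R.carrier) = maximalIdeal R.carrier from hts, ← hm]
        exact Ideal.mem_map_of_mem π.toRingHom hx
      obtain ⟨v, hv, he⟩ := (Ideal.mem_map_iff_of_surjective π.toRingHom (fun r => ⟨g r, hg r⟩)).1 h1
      rw [← sub_add_cancel x v, add_comm]
      refine Submodule.add_mem_sup hv ?_
      rw [smul_eq_mul, ← sq]
      exact hker (by rw [RingHom.mem_ker, map_sub, sub_eq_zero]; exact he.symm)
    have hN : maximalIdeal S.carrier ≤ N := Submodule.le_of_le_smul_of_le_jacobson_bot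
      (IsNoetherian.noetherian _) (IsLocalRing.maximalIdeal_le_jacobson _) hle
    rw [le_antisymm hN hgm, ← ht]
    exact (Submodule.spanFinrank_span_le_ncard_of_finite (Finset.finite_toSet _)).trans
      (by rw [Set.ncard_coe_finset]; exact Finset.card_image_le)

theorem apply_eq_of_mem_sq {S : CRing k k} {B A : Art k k} (p : B ⟶ A) (hp : IsSemismallExt p)
    (f g : HomSet S.carrier S.res B) (h : HomSet.map p f = HomSet.map p g) :
    ∀ x ∈ maximalIdeal S.carrier ^ 2, f.1 x = g.1 x := by
  intro x hx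
  rw [sq] at hx
  have hd : ∀ a, f.1 a - g.1 a ∈ RingHom.ker p.toAlgHom := fun a => by
    rw [RingHom.mem_ker, map_sub, sub_eq_zero]
    exact congrArg (fun φ : HomSet S.carrier S.res A => φ.1 a) h
  have hm : ∀ (φ : HomSet S.carrier S.res B), ∀ a ∈ maximalIdeal S.carrier, φ.1 a ∈ maximalIdeal B := fun φ a ha => by
    rw [mem_maximalIdeal_iff, res_homSet]
    exact (CRing.mem_maximalIdeal_iff S a).1 ha
  have hk : ∀ (m z : B), m ∈ maximalIdeal B → z ∈ RingHom.ker p.toAlgHom → m * z = 0 := fun m z hm hz => by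
    have : m * z ∈ maximalIdeal B * RingHom.ker p.toAlgHom := Ideal.mul_mem_mul hm hz
    rwa [hp.2] at this
  refine Submodule.mul_induction_on hx (fun a ha b hb => ?_) (fun a b ha hb => by rw [map_add, map_add, ha, hb])
  rw [← sub_eq_zero, map_mul, map_mul,
    show f.1 a * f.1 b - g.1 a * g.1 b = f.1 a * (f.1 b - g.1 b) + g.1 b * (f.1 a - g.1 a) by ring,
    hk _ _ (hm f a ha) (hd b), hk _ _ (hm g b hb) (hd a), add_zero]

/-- The relations of a versal ring are bounded by the obstructions. -/
theorem exists_bounded_presentation {F : Art k k ⥤ Type v} (R : CRing k k) (ξ : Family R.carrier R.res F)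
    (hξ : IsVersal ξ) (V : Type w) [AddCommGroup V] [Module k V] [Module.Finite k V] (hob : HasObs F V) :
    ∃ (S : CRing k k) (π : S.carrier →ₐ[k] R.carrier), IsRegularLocalRing S.carrier ∧ Function.Surjective π ∧
      R.res.comp π = S.res ∧ IsSmoothFunctor (hR S.carrier S.res) ∧
      ringKrullDim S.carrier = (Module.finrank (ResidueField R.carrier) (CotangentSpace R.carrier) : WithBot ℕ∞) ∧
      ∃ rs : List S.carrier, RingHom.ker π = Ideal.ofList rs ∧ rs.length ≤ Module.finrank k V := by
  classical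
  obtain ⟨d, S, X, π, hres, hs, hker, hX, hfree⟩ := exists_presentation Function.surjective_id R
  rw [linIdeal_eq] at hker
  haveI hreg := RegPointLib.isRegularLocalRing_of_isSmoothFunctor S.res (isSmoothFunctor_of_free S X hX hfree)
  have hdim : ringKrullDim S.carrier = (Module.finrank (ResidueField R.carrier) (CotangentSpace R.carrier) : WithBot ℕ∞) := by
    rw [RegPointLib.ringKrullDim_eq_finrank, ← spanFinrank_maximalIdeal_eq_finrank_cotangentSpace,
      ← spanFinrank_maximalIdeal_eq_finrank_cotangentSpace, spanFinrank_map_maximal π hs hker]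
  refine ⟨S, π, hreg, hs, hres, isSmoothFunctor_of_free S X hX hfree, hdim, ?_⟩
  set I : Ideal S.carrier := RingHom.ker π
  set m := maximalIdeal S.carrier
  obtain ⟨c, hc⟩ := Ideal.exists_pow_inf_eq_pow_smul m I
  let N := c + 1
  have hAR : m ^ N ⊓ I ≤ m * I := by
    have h := hc (c + 1) (Nat.le_succ c)
    simp only [Nat.add_sub_cancel_left, pow_one, smul_eq_mul, Ideal.mul_top] at h
    show m ^ (c + 1) ⊓ I ≤ _
    rw [h]
    exact Ideal.mul_mono le_rfl inf_le_right
  have hIm : I ≤ m := hker.trans (Ideal.pow_le_self two_ne_zero)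
  let LB : Lvl S := ⟨m * I ⊔ m ^ N, sup_le Ideal.mul_le_left (Ideal.pow_le_self (Nat.succ_ne_zero c)),
    ⟨c, le_sup_right⟩⟩
  let LA : Lvl S := ⟨I ⊔ m ^ N, sup_le hIm (Ideal.pow_le_self (Nat.succ_ne_zero c)), ⟨c, le_sup_right⟩⟩
  have hBA : LB.J ≤ LA.J := sup_le_sup_right Ideal.mul_le_right _
  let q : LB.obj ⟶ LA.obj := LA.trans hBA
  have hq : IsSemismallExt q := by
    refine ⟨LA.trans_surjective hBA, le_antisymm ?_ bot_le⟩
    rw [Ideal.mul_le]
    intro a ha b hb
    obtain ⟨a, rfl⟩ := LB.proj_surjective a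
    obtain ⟨b, rfl⟩ := LB.proj_surjective b
    have hb' : b ∈ LA.J := (LA.proj_eq_zero_iff b).1 hb
    have ha' : a ∈ m := by
      rw [mem_maximalIdeal_iff, res_homSet] at ha
      exact (CRing.mem_maximalIdeal_iff S a).2 ha
    rw [Ideal.mem_bot, ← map_mul, LB.proj_eq_zero_iff]
    obtain ⟨x, hx, z, hz, rfl⟩ := Submodule.mem_sup.1 hb'
    rw [mul_add]
    exact Submodule.add_mem_sup (Ideal.mul_mem_mul ha' hx) (Ideal.mul_mem_left _ _ hz)
  let lA : S.carrier ⧸ I →ₐ[k] LA.obj :=
    Ideal.Quotient.liftₐ I LA.proj.1 fun x hx => (LA.proj_eq_zero_iff x).2 (Ideal.mem_sup_left hx)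
  let φ : HomSet R.carrier R.res LA.obj :=
    ⟨lA.comp
      (Ideal.quotientKerAlgEquivOfSurjective hs).symm.toAlgHom, AlgHom.ext fun r => by
      obtain ⟨x, rfl⟩ := hs r
      show LA.obj.res (lA ((Ideal.quotientKerAlgEquivOfSurjective hs).symm (π x))) = _
      rw [show (Ideal.quotientKerAlgEquivOfSurjective hs).symm (π x) = Ideal.Quotient.mk I x from
        (AlgEquiv.symm_apply_eq _).2 rfl]
      exact (res_homSet LA.proj x).trans (congrArg (fun f : S.carrier →ₐ[k] k => f x) hres).symm⟩
  have hφ : ∀ x, φ.1 (π x) = LA.proj.1 x := fun x => by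
    show lA ((Ideal.quotientKerAlgEquivOfSurjective hs).symm (π x)) = _
    rw [show (Ideal.quotientKerAlgEquivOfSurjective hs).symm (π x) = Ideal.Quotient.mk I x from
      (AlgEquiv.symm_apply_eq _).2 rfl]
    rfl
  obtain ⟨ob, hob'⟩ := hob q hq (ξ.app _ φ)
  have hmemI : ∀ b : kerQ q, ∃ x ∈ I, LB.proj.1 x = b.1 := fun b => by
    obtain ⟨x, hx⟩ := LB.proj_surjective b.1
    have hxA : x ∈ LA.J := (LA.proj_eq_zero_iff x).1 (by
      have : q.toAlgHom b.1 = 0 := b.2
      rw [← hx] at this
      exact this)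
    obtain ⟨v, hv, z, hz, rfl⟩ := Submodule.mem_sup.1 hxA
    refine ⟨v, hv, ?_⟩
    rw [← hx, map_add, (LB.proj_eq_zero_iff z).2 (Ideal.mem_sup_right hz), add_zero]
  have hinj : Function.Injective ob := (injective_iff_map_eq_zero ob).2 fun l hl0 => by
    by_contra hne
    obtain ⟨B', π', p, hcomp, hp, ⟨b, hb⟩, s', hs'⟩ := hob' l hne hl0
    obtain ⟨ψ, hψ, -⟩ := hξ p hp.1 φ s' hs'
    obtain ⟨x, hxI, hxb⟩ := hmemI b
    let f : HomSet S.carrier S.res B' := HomSet.map π' LB.proj
    let g : HomSet S.carrier S.res B' := ⟨ψ.1.comp π, by rw [← AlgHom.comp_assoc, ψ.2, hres]⟩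
    have hfg : HomSet.map p f = HomSet.map p g := by
      refine HomSet.ext' fun a => ?_
      show (π' ≫ p) (LB.proj.1 a) = (HomSet.map p ψ).1 (π a)
      rw [hcomp, hψ, hφ]
      rfl
    have h2 := apply_eq_of_mem_sq p hp.isSemismallExt f g hfg x (hker hxI)
    refine hb ?_
    rw [← hxb]
    exact h2.trans (by show ψ.1 (π x) = 0; rw [show π x = 0 from hxI, map_zero])
  haveI : Module.Finite k (Module.Dual k (kerQ q)) := Module.Finite.of_injective ob hinj
  haveI : Module.Finite k (kerQ q) := (Module.finite_dual_iff k).1 inferInstance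
  have hle : Module.finrank k (kerQ q) ≤ Module.finrank k V := by
    rw [← Subspace.dual_finrank_eq]
    exact LinearMap.finrank_le_finrank_of_injective hinj
  let bas := Module.finBasis k (kerQ q)
  choose g hgI hgb using fun j => hmemI (bas j)
  refine ⟨List.ofFn g, ?_, by simpa using hle⟩
  have hgen : Ideal.ofList (List.ofFn g) ≤ I := Ideal.span_le.2 fun x hx => by
    obtain ⟨j, rfl⟩ := List.mem_ofFn.1 hx
    exact hgI j
  refine le_antisymm (Submodule.le_of_le_smul_of_le_jacobson_bot (IsNoetherian.noetherian I)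
    (IsLocalRing.maximalIdeal_le_jacobson _) fun x hx => ?_) hgen
  let b : kerQ q := ⟨LB.proj.1 x, show LA.proj.1 x = 0 from (LA.proj_eq_zero_iff x).2 (Ideal.mem_sup_left hx)⟩
  let v : S.carrier := ∑ j, algebraMap k S.carrier (bas.repr b j) * g j
  have hv : v ∈ Ideal.ofList (List.ofFn g) :=
    Ideal.sum_mem _ fun j _ => Ideal.mul_mem_left _ _ (Ideal.subset_span (List.mem_ofFn.2 ⟨j, rfl⟩))
  have hvb : LB.proj.1 v = LB.proj.1 x := by
    show _ = b.1
    conv_rhs => rw [← bas.sum_repr b]
    rw [map_sum, Submodule.coe_sum]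
    refine Finset.sum_congr rfl fun j _ => ?_
    rw [map_mul, AlgHom.commutes, hgb, SetLike.val_smul, Algebra.smul_def]
  rw [← sub_add_cancel x v, add_comm]
  refine Submodule.add_mem_sup hv ?_
  have h1 : x - v ∈ m * I ⊔ m ^ N := (LB.proj_eq_zero_iff _).1 (by rw [map_sub, hvb, sub_self])
  obtain ⟨a, ha, z, hz, he⟩ := Submodule.mem_sup.1 h1
  have hz' : z ∈ I := by
    rw [show z = (x - v) - a by rw [← he]; ring]
    exact sub_mem (sub_mem hx (hgen hv)) (Ideal.mul_le_right ha)
  rw [smul_eq_mul, ← he]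
  exact add_mem ha (hAR ⟨hz, hz'⟩)

end Groth.Agent.ObsBoundLib
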