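import Groth.Agent.ObsBoundLib.Push
import Groth.Agent.ObsLiftLib.Global
import Groth.Agent.H1ClassLib.Basic
import Groth.Agent.TanHilbLib.Lin

/-! The obstruction class of a semismall extension, linear in the functional. -/

set_option autoImplicit false
set_option backward.isDefEq.respectTransparency false
set_option backward.isDefEq.respectTransparency.types false
set_option linter.style.haveILetI false

universe u

open CategoryTheory CategoryTheory.Limits AlgebraicGeometry TopologicalSpace Opposite ArtFun ArtFun.Art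
open scoped TensorProduct

noncomputable section

namespace Groth.Agent.ObsBoundLib

open LocHilbGlueLib TanHilbLib ObsLiftLib CohBase

variable {k : Type u} [Field k] {Y Z : Scheme.{u}} {y : Y ⟶ specPt k} {i : Z ⟶ Y} [IsClosedImmersion i]

section coboundary

variable {A' A : Art k k} {p : A' ⟶ A} {e : Small p} {s : (localHilb Y y i.ker).obj A}
  {ι : Type u} (V : ι → Y.affineOpens) (L : ∀ j, Lift y i e s (V j))

theorem exists_lift_of_coboundary (hV : ∀ z : Y, ∃ j, z ∈ (V j).1)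
    (c : ∀ a b, Γ(normal i, i ⁻¹ᵁ ((V a).1 ⊓ (V b).1)))
    (hc : ∀ a b (U : Y.affineOpens) (ha : U.1 ≤ (V a).1) (hb : U.1 ≤ (V b).1),
      rN (i.preimage_mono (le_inf ha hb)) (c a b) = diff ((L a).res ha) ((L b).res hb))
    (h : ∀ a, Γ(normal i, i ⁻¹ᵁ (V a).1))
    (hh : ∀ a b, rN (i.preimage_mono inf_le_right) (h b) - rN (i.preimage_mono inf_le_left) (h a) = c a b) :
    ∃ s' : (localHilb Y y i.ker).obj A', (localHilb Y y i.ker).map p s' = s := by
  refine exists_of_compat V hV (fun j => (L j).act (-(h j))) fun a b U ha hb => ?_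
  rw [act_res, act_res]
  have hab : rN (i.preimage_mono hb) (h b) - rN (i.preimage_mono ha) (h a) = diff ((L a).res ha) ((L b).res hb) := by
    rw [← hc a b U ha hb, ← hh a b, rN_sub, rN_rN, rN_rN]
  refine eq_of_diff_eq (L := (L a).res ha) ?_
  rw [diff_act, ← diff_add ((L a).res ha) ((L b).res hb), diff_act, map_neg, map_neg]
  show -rN _ _ = _ + -rN _ _
  rw [← hab]
  abel

theorem exists_diff_cocycle : ∃ c : ∀ a b, Γ(normal i, i ⁻¹ᵁ ((V a).1 ⊓ (V b).1)),
    ∀ a b (U : Y.affineOpens) (ha : U.1 ≤ (V a).1) (hb : U.1 ≤ (V b).1),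
      rN (i.preimage_mono (le_inf ha hb)) (c a b) = diff ((L a).res ha) ((L b).res hb) := by
  choose c hc using fun a b => exists_pair V L a b
  exact ⟨c, hc⟩

end coboundary

theorem rN_zero {W W' : Z.Opens} (h : W' ≤ W) : rN h (0 : Γ(normal i, W)) = 0 :=
  map_zero ((normal i).presheaf.map (homOfLE h).op).hom

theorem val_zero_left {V : Y.Opens} (m : Γ(ClSub.idealMod i.ker, V)) : val i (0 : Γ(normal i, i ⁻¹ᵁ V)) m = 0 := by
  have h := val_add_left i (0 : Γ(normal i, i ⁻¹ᵁ V)) 0 m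
  rw [add_zero] at h
  exact left_eq_add.1 h

variable {B A : Art k k} {q : B ⟶ A} (hq : IsSemismallExt q) {s : (localHilb Y y i.ker).obj A}
  {ι : Type u} (V : ι → Y.affineOpens)
  (K : ∀ j, letI := algV y (V j).1; Ideal (B ⊗[k] Γ(Y, (V j).1)))
  (hKm : ∀ j, letI := algV y (V j).1; (K j).map (tmap Γ(Y, (V j).1) q.toAlgHom) = JV y A (V j).2 s.1)

theorem resT_tmap {C D : Art k k} (g : C ⟶ D) {W W' : Y.Opens} (hle : W' ≤ W) (w : letI := algV y W; C ⊗[k] Γ(Y, W)) :
    letI := algV y W; letI := algV y W'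
    tmap Γ(Y, W') g.toAlgHom (resT y C hle w) = resT y D hle (tmap Γ(Y, W) g.toAlgHom w) := by
  letI := algV y W; letI := algV y W'
  exact tmap_mapR (p := g) (resA y hle) w

include hKm in
theorem map_tmap_res (j : ι) (U : Y.affineOpens) (hle : U.1 ≤ (V j).1) :
    letI := algV y (V j).1; letI := algV y U.1
    ((K j).map (resT y B hle)).map (tmap Γ(Y, U.1) q.toAlgHom) = JV y A U.2 s.1 := by
  letI := algV y (V j).1; letI := algV y U.1
  rw [← map_resT_JV y A (V j).2 U.2 hle s.1, ← hKm j, Ideal.map_mapₐ, Ideal.map_mapₐ]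
  exact congrArg (fun g : B ⊗[k] Γ(Y, (V j).1) →ₐ[k] A ⊗[k] Γ(Y, U.1) => (K j).map g) (AlgHom.ext (resT_tmap q hle))

variable (hKf : ∀ j, letI := algV y (V j).1; Module.Flat B ((B ⊗[k] Γ(Y, (V j).1)) ⧸ K j))

/-- A cocycle for each functional. -/
def IsObs (proj : B →ₗ[k] kerQ q) (c : Module.Dual k (kerQ q) → ∀ a b, Γ(normal i, i ⁻¹ᵁ ((V a).1 ⊓ (V b).1))) : Prop :=
  ∀ a b (U : Y.affineOpens) (ha : U.1 ≤ (V a).1) (hb : U.1 ≤ (V b).1) (m : Γ(ClSub.idealMod i.ker, U.1)),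
    letI := algV y U.1
    ∃ z : B ⊗[k] Γ(Y, U.1), ∀ l, val i (rN (i.preimage_mono (le_inf ha hb)) (c l a b)) m =
      i.app U.1 (contr (l ∘ₗ proj) z)

include hq hKm hKf in
theorem exists_obs : ∃ (proj : B →ₗ[k] kerQ q) (c : Module.Dual k (kerQ q) → ∀ a b, Γ(normal i, i ⁻¹ᵁ ((V a).1 ⊓ (V b).1))),
    IsObs (y := y) V proj c ∧ ∀ l, l ≠ 0 → ∃ (P : Push q l) (L : ∀ j, Lift y i P.e s (V j)) (v : kerQ q), l v = 1 ∧
      ∀ a b (U : Y.affineOpens) (ha : U.1 ≤ (V a).1) (hb : U.1 ≤ (V b).1),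
        rN (i.preimage_mono (le_inf ha hb)) (c l a b) = diff ((L a).res ha) ((L b).res hb) := by
  classical
  obtain ⟨proj, hproj⟩ := (kerQ q).subtype.exists_leftInverse_of_injective (kerQ q).ker_subtype
  let P : ∀ l : Module.Dual k (kerQ q), l ≠ 0 → Push q l := fun l hl => (nonempty_push q hq hl).some
  have hv : ∀ l : Module.Dual k (kerQ q), l ≠ 0 → ∃ v, l v = 1 := fun l hl => by
    obtain ⟨w, hw⟩ : ∃ w, l w ≠ 0 := by
      by_contra h
      push Not at h
      exact hl (LinearMap.ext h)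
    exact ⟨(l w)⁻¹ • w, by rw [map_smul, smul_eq_mul, inv_mul_cancel₀ hw]⟩
  choose v hv using hv
  let L : ∀ l (hl : l ≠ 0) j, Lift y i (P l hl).e s (V j) := fun l hl j =>
    letI := algV y (V j).1
    ⟨(K j).map (tmap Γ(Y, (V j).1) (P l hl).π.toAlgHom), (P l hl).isLift hq (v l hl) (hv l hl) (hKm j) (hKf j)⟩
  choose c hc using fun l hl => exists_diff_cocycle V (L l hl)
  let c' : Module.Dual k (kerQ q) → ∀ a b, Γ(normal i, i ⁻¹ᵁ ((V a).1 ⊓ (V b).1)) :=
    fun l a b => if hl : l = 0 then 0 else c l hl a b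
  refine ⟨proj, c', fun a b U ha hb m => ?_, fun l hl => ⟨(P l hl), L l hl, v l hl, hv l hl, fun a b U ha hb => ?_⟩⟩
  swap
  · rw [show c' l a b = c l hl a b from dif_neg hl]
    exact hc l hl a b U ha hb
  letI := algV y U.1; letI := algV y (V a).1; letI := algV y (V b).1
  obtain ⟨u, hu, hul⟩ := (Ideal.mem_map_iff_of_surjective (l0 Γ(Y, U.1) A) (l0_surjective A)).1
    (idealSect_mem (y := y) (i := i) (s := s) m)
  obtain ⟨w, hw, hwu⟩ := (Ideal.mem_map_iff_of_surjective _ (tmap_surjective q.toAlgHom hq.1)).1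
    ((map_tmap_res V K hKm a U ha).symm ▸ hu : u ∈ ((K a).map (resT y B ha)).map (tmap Γ(Y, U.1) q.toAlgHom))
  obtain ⟨w', hw', hw'u⟩ := (Ideal.mem_map_iff_of_surjective _ (tmap_surjective q.toAlgHom hq.1)).1
    ((map_tmap_res V K hKm b U hb).symm ▸ hu : u ∈ ((K b).map (resT y B hb)).map (tmap Γ(Y, U.1) q.toAlgHom))
  refine ⟨w' - w, fun l => ?_⟩
  by_cases hl : l = 0
  · rw [show c' l a b = 0 from dif_pos hl, rN_zero, val_zero_left, hl]
    simp [contr]
  rw [show c' l a b = c l hl a b from dif_neg hl, hc l hl a b U ha hb]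
  let Q := (P l hl)
  have hmem : ∀ (j : ι) (hj : U.1 ≤ (V j).1) (x : B ⊗[k] Γ(Y, U.1)),
      (letI := algV y (V j).1; x ∈ (K j).map (resT y B hj)) → tmap Γ(Y, U.1) Q.π.toAlgHom x ∈ ((L l hl j).res hj).ideal := by
    intro j hj x hx
    letI := algV y (V j).1
    show _ ∈ Ideal.map (resT y Q.obj hj) ((K j).map (tmap Γ(Y, (V j).1) Q.π.toAlgHom))
    have h1 : ((K j).map (resT y B hj)).map (tmap Γ(Y, U.1) Q.π.toAlgHom) =
        ((K j).map (tmap Γ(Y, (V j).1) Q.π.toAlgHom)).map (resT y Q.obj hj) := by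
      rw [Ideal.map_mapₐ, Ideal.map_mapₐ]
      exact congrArg (fun g : B ⊗[k] Γ(Y, (V j).1) →ₐ[k] Q.obj ⊗[k] Γ(Y, U.1) => (K j).map g) (AlgHom.ext (resT_tmap Q.π hj))
    rw [← h1]
    exact Ideal.mem_map_of_mem _ hx
  refine isDiff_diff _ _ m _ ⟨_, hmem a ha w hw, _, hmem b hb w' hw', ?_, ?_⟩
  · rw [l0_tmap, ← hul, ← hwu, l0_tmap]
  · rw [← map_sub]
    exact Q.tmap_eq hq (l ∘ₗ proj) (fun x => congrArg l (LinearMap.congr_fun hproj x)) (by rw [map_sub, hwu, hw'u, sub_self])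

end Groth.Agent.ObsBoundLib
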