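import Groth.Agent.RegPointLib.Smooth

/-! Artinian points of a completion. -/

set_option autoImplicit false
set_option linter.style.haveILetI false

universe u

open CategoryTheory ArtFun ArtFun.Art IsLocalRing

noncomputable section

namespace Groth.Agent.ObsBoundLib

open RegPointLib

variable {k : Type u} [Field k] {R : Type u} [CommRing R] [IsLocalRing R] [IsNoetherianRing R] [Algebra k R]
  (resR : R →ₐ[k] k)

/-- Restriction of a point of the completion. -/
def restrictPt {A : Art k k} (φ : HomSet (cring resR).carrier (cring resR).res A) : HomSet R resR A :=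
  ⟨φ.1.comp (IsScalarTower.toAlgHom k R (AdicCompletion (maximalIdeal R) R)), AlgHom.ext fun r => by
    show A.res (φ.1 _) = resR r
    rw [ArtFunLib.res_homSet]
    exact resHat_of resR r⟩

theorem restrictPt_map {A B : Art k k} (f : A ⟶ B) (φ : HomSet (cring resR).carrier (cring resR).res A) :
    restrictPt resR (HomSet.map f φ) = HomSet.map f (restrictPt resR φ) := rfl

theorem bijective_restrictPt (A : Art k k) : Function.Bijective (restrictPt resR (A := A)) := by
  obtain ⟨N, hN⟩ := ArtFunLib.exists_pow_eq_bot A
  refine ⟨fun φ ψ e => Subtype.ext ?_, fun ψ₀ => ?_⟩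
  · have e' : ∀ r, φ.1 (algebraMap R (AdicCompletion (maximalIdeal R) R) r : AdicCompletion (maximalIdeal R) R) =
        ψ.1 (algebraMap R (AdicCompletion (maximalIdeal R) R) r : AdicCompletion (maximalIdeal R) R) := fun r =>
      congrArg (fun χ : HomSet R resR A => χ.1 r) e
    exact hom_ext_completion φ.1 ψ.1 (N := N) (fun r hr => apply_pow_eq_zero resR (restrictPt resR φ) hN hr) e'
  · let ψ : AdicCompletion (maximalIdeal R) R →ₐ[k] A :=
      (Ideal.Quotient.liftₐ (maximalIdeal R ^ N) ψ₀.1 fun r hr => apply_pow_eq_zero resR ψ₀ hN hr).comp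
        ((AdicCompletion.evalₐ (maximalIdeal R) N).restrictScalars k)
    have hψ : ∀ r, ψ (algebraMap R _ r) = ψ₀.1 r := fun r => by
      simp only [ψ, AlgHom.comp_apply, AlgHom.restrictScalars_apply, AlgHom.commutes]
      rfl
    refine ⟨⟨ψ, ?_⟩, Subtype.ext (AlgHom.ext hψ)⟩
    refine hom_ext_completion (A := base k k) (A.res.comp ψ) (cring resR).res (N := max N 1) (fun r hr => ?_) fun r => ?_
    · show A.res (ψ (algebraMap R _ r)) = 0
      rw [hψ, apply_pow_eq_zero resR ψ₀ hN (Ideal.pow_le_pow_right (le_max_left _ _) hr), map_zero]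
    · show A.res (ψ (algebraMap R _ r)) = resHat resR (algebraMap R _ r)
      rw [hψ, ArtFunLib.res_homSet, resHat_of]

end Groth.Agent.ObsBoundLib
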