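import Groth.Agent.ObsBoundLib.Bound
import Groth.Agent.RegLocal.Basic
import Groth.Agent.ArtFunLib.Tangent
import Groth.Agent.ArtFunLib.HR
import Groth.Agent.DeformLib.Lifting
import Groth.Agent.GorLib.Ring
import Groth.Agent.GorLib.CM
import Groth.Prelude.Def_Pi1

/-! Dimension bounds for pro-representing rings with obstructions. -/

set_option autoImplicit false
set_option backward.isDefEq.respectTransparency false
set_option backward.isDefEq.respectTransparency.types false
set_option linter.style.haveILetI false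

universe u v w

open CategoryTheory ArtFun ArtFun.Art IsLocalRing

noncomputable section

namespace Groth.Agent.ObsBoundLib

open ArtFunLib

variable {k : Type u} [Field k] {F : Art k k ⥤ Type v} (R : CRing k k) (ξ : Family R.carrier R.res F)

theorem finrank_cotangent_eq (hξ : IsUniversal ξ) [T : TangentStr F] :
    Module.finrank (ResidueField R.carrier) (CotangentSpace R.carrier) = Module.finrank k (TangentSpace F) := by
  obtain ⟨T'⟩ := nonempty_tangentStr (hR_h0 R.res) (hR_heps R.res)
  letI := T'
  obtain ⟨f, hf⟩ := Mor.exists_tangent_linear (hR_h0 R.res) (hR_heps R.res) (Mor.ofFamily ξ)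
  have hbij : Function.Bijective f := by
    have hf' : (f : _ → _) = fun φ => TangentSpace.mk (ξ.app (dual k k) φ) := funext hf
    rw [hf']
    exact hξ (dual k k)
  rw [← HilbPointLib.finrank_tangent R.res, (LinearEquiv.ofBijective f hbij).finrank_eq]

theorem isSmoothFunctor_iff (hξ : IsUniversal ξ) : IsSmoothFunctor F ↔ IsSmoothFunctor (hR R.carrier R.res) := by
  refine ⟨fun h B A μ hμ φ => ?_, fun h B A μ hμ x => ?_⟩
  · obtain ⟨y, hy⟩ := h μ hμ (ξ.app A φ)
    obtain ⟨ψ, rfl⟩ := (hξ B).2 y
    exact ⟨ψ, (hξ A).1 ((ξ.natural μ ψ).trans hy)⟩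
  · obtain ⟨φ, rfl⟩ := (hξ A).2 x
    obtain ⟨ψ, hψ⟩ := h μ hμ φ
    exact ⟨ξ.app B ψ, (ξ.natural μ ψ).symm.trans (congrArg (ξ.app A) hψ)⟩

theorem isVersal_of_isUniversal (hξ : IsUniversal ξ) : IsVersal ξ := fun B A μ hμ φ y hy => by
  obtain ⟨ψ, rfl⟩ := (hξ B).2 y
  exact ⟨ψ, (hξ A).1 ((ξ.natural μ ψ).trans hy), rfl⟩

theorem ringKrullDim_le_finrank_cotangent :
    ringKrullDim R.carrier ≤ (Module.finrank (ResidueField R.carrier) (CotangentSpace R.carrier) : WithBot ℕ∞) := by
  rw [← spanFinrank_maximalIdeal_eq_finrank_cotangentSpace]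
  exact ringKrullDim_le_spanFinrank_maximalIdeal R.carrier

variable (V : Type w) [AddCommGroup V] [Module k V] [Module.Finite k V]

theorem finrank_cotangent_le (hξ : IsVersal ξ) (hob : HasObs F V) :
    (Module.finrank (ResidueField R.carrier) (CotangentSpace R.carrier) : WithBot ℕ∞) ≤
      ringKrullDim R.carrier + (Module.finrank k V : WithBot ℕ∞) := by
  classical
  obtain ⟨S, π, hreg, hs, -, -, hdim, rs, hker, hlen⟩ := exists_bounded_presentation R ξ hξ V hob
  rw [← hdim, ← ringKrullDim_eq_of_ringEquiv (RingHom.quotientKerEquivOfSurjective (f := π.toRingHom) hs),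
    show RingHom.ker π.toRingHom = Ideal.ofList rs from hker]
  refine (ringKrullDim_le_ringKrullDim_quotient_add_spanFinrank (Ideal.ofList rs) ?_).trans (add_le_add le_rfl ?_)
  · refine (hker.ge.trans ?_).trans (IsLocalRing.ringJacobson_eq_maximalIdeal _).ge
    exact le_maximalIdeal (RingHom.ker_ne_top π)
  · have : (Ideal.ofList rs).spanFinrank ≤ rs.length := by
      rw [show Ideal.ofList rs = Ideal.span ((rs.toFinset : Finset S.carrier) : Set S.carrier) from
        congrArg Ideal.span (Set.ext fun x => by simp)]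
      exact (Submodule.spanFinrank_span_le_ncard_of_finite (Finset.finite_toSet _)).trans
        (by rw [Set.ncard_coe_finset]; exact List.toFinset_card_le rs)
    exact_mod_cast this.trans hlen

theorem smooth_of_dim_eq (hξ : IsVersal ξ) (hob : HasObs F V)
    (h : ringKrullDim R.carrier = (Module.finrank (ResidueField R.carrier) (CotangentSpace R.carrier) : WithBot ℕ∞)) :
    IsSmoothFunctor (hR R.carrier R.res) := by
  obtain ⟨S, π, hreg, hs, hres, hsm, hdim, -⟩ := exists_bounded_presentation R ξ hξ V hob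
  haveI := hreg
  haveI : IsDomain S.carrier := RegLocal.isDomain_aux _ S.carrier hdim
  have hinj : Function.Injective π := (injective_iff_map_eq_zero π).2 fun x hx => by
    by_contra hne
    have h1 := ringKrullDim_quotient_succ_le_of_nonZeroDivisor (mem_nonZeroDivisors_of_ne_zero hne)
    have h2 : ringKrullDim R.carrier ≤ ringKrullDim (S.carrier ⧸ Ideal.span {x}) :=
      ringKrullDim_le_of_surjective (Ideal.Quotient.lift (Ideal.span {x}) π.toRingHom (fun a ha => by
        obtain ⟨c, rfl⟩ := Ideal.mem_span_singleton'.1 ha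
        show π (c * x) = 0
        rw [map_mul, hx, mul_zero])) (fun r => by
        obtain ⟨a, rfl⟩ := hs r
        exact ⟨Ideal.Quotient.mk _ a, rfl⟩)
    have h3 := (add_le_add h2 (le_refl (1 : WithBot ℕ∞))).trans h1
    rw [h, hdim] at h3
    have h4 : Module.finrank (ResidueField R.carrier) (CotangentSpace R.carrier) + 1 ≤
        Module.finrank (ResidueField R.carrier) (CotangentSpace R.carrier) := by exact_mod_cast h3
    omega
  intro B A μ hμ φ
  obtain ⟨ψ, hψ⟩ := hsm μ hμ (⟨(φ : HomSet R.carrier R.res A).1.comp π, by rw [← AlgHom.comp_assoc, φ.2, hres]⟩ : HomSet S.carrier S.res A)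
  let e := AlgEquiv.ofBijective π ⟨hinj, hs⟩
  refine ⟨⟨(ψ : HomSet S.carrier S.res B).1.comp e.symm.toAlgHom, AlgHom.ext fun r => ?_⟩, HomSet.ext' fun r => ?_⟩
  · obtain ⟨x, rfl⟩ := hs r
    show B.res (ψ.1 (e.symm (e x))) = R.res (π x)
    rw [e.symm_apply_apply, res_homSet]
    exact congrArg (fun f : S.carrier →ₐ[k] k => f x) hres.symm
  · obtain ⟨x, rfl⟩ := hs r
    show μ (ψ.1 (e.symm (e x))) = φ.1 (π x)
    rw [e.symm_apply_apply]
    exact congrArg (fun χ : HomSet S.carrier S.res A => χ.1 x) hψ

theorem dim_eq_iff (hξ : IsUniversal ξ) (hob : HasObs F V) :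
    ringKrullDim R.carrier = (Module.finrank (ResidueField R.carrier) (CotangentSpace R.carrier) : WithBot ℕ∞) ↔
      IsSmoothFunctor F := by
  rw [isSmoothFunctor_iff R ξ hξ]
  refine ⟨smooth_of_dim_eq R ξ V (isVersal_of_isUniversal R ξ hξ) hob, fun h => ?_⟩
  haveI := RegPointLib.isRegularLocalRing_of_isSmoothFunctor R.res h
  exact RegPointLib.ringKrullDim_eq_finrank

/-- When the bound is attained the ring is a quotient of a regular local ring by a regular sequence. -/
theorem exists_regular_presentation (hξ : IsVersal ξ) (hob : HasObs F V)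
    (h : ringKrullDim R.carrier + (Module.finrank k V : WithBot ℕ∞) =
      (Module.finrank (ResidueField R.carrier) (CotangentSpace R.carrier) : WithBot ℕ∞)) :
    ∃ (S : CRing k k) (_ : IsRegularLocalRing S.carrier) (rs : List S.carrier),
      (∀ r ∈ rs, r ∈ maximalIdeal S.carrier) ∧ RingTheory.Sequence.IsRegular S.carrier rs ∧
        Nonempty (R.carrier ≃+* S.carrier ⧸ Ideal.ofList rs) := by
  classical
  obtain ⟨S, π, hreg, hs, -, -, hdim, rs, hker, hlen⟩ := exists_bounded_presentation R ξ hξ V hob
  haveI := hreg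
  haveI : LocCoh.IsCohenMacaulayLocalRing S.carrier := GorLib.isCohenMacaulay S.carrier (GorLib.gorensteinLocal_of_regular S.carrier)
  have hm : ∀ r ∈ rs, r ∈ maximalIdeal S.carrier := fun r hr =>
    le_maximalIdeal (RingHom.ker_ne_top π) (hker.ge (Ideal.subset_span hr))
  let e : R.carrier ≃+* S.carrier ⧸ Ideal.ofList rs :=
    (RingHom.quotientKerEquivOfSurjective (f := π.toRingHom) hs).symm.trans (Ideal.quotEquivOfEq hker)
  have hd : ringKrullDim (S.carrier ⧸ Ideal.ofList rs) + (rs.length : WithBot ℕ∞) = ringKrullDim S.carrier := by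
    refine le_antisymm ?_ ?_
    · rw [hdim, ← h, ← ringKrullDim_eq_of_ringEquiv e]
      exact add_le_add le_rfl (by exact_mod_cast hlen)
    · refine (ringKrullDim_le_ringKrullDim_quotient_add_spanFinrank (Ideal.ofList rs)
        ((Ideal.span_le.2 hm).trans (IsLocalRing.ringJacobson_eq_maximalIdeal _).ge)).trans (add_le_add le_rfl ?_)
      have : (Ideal.ofList rs).spanFinrank ≤ rs.length := by
        rw [show Ideal.ofList rs = Ideal.span ((rs.toFinset : Finset S.carrier) : Set S.carrier) from
          congrArg Ideal.span (Set.ext fun x => by simp)]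
        exact (Submodule.spanFinrank_span_le_ncard_of_finite (Finset.finite_toSet _)).trans
          (by rw [Set.ncard_coe_finset]; exact List.toFinset_card_le rs)
      exact_mod_cast this
  refine ⟨S, hreg, rs, hm, ⟨DeformLib.isWeaklyRegular_of_ringKrullDim rs hm hd, ?_⟩, ⟨e⟩⟩
  rw [smul_eq_mul, Ideal.mul_top]
  exact fun htop => (maximalIdeal.isMaximal S.carrier).ne_top (top_le_iff.1 (htop.le.trans (Ideal.span_le.2 hm)))

end Groth.Agent.ObsBoundLib
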