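import Groth.Agent.ObsBoundLib.Push
import Groth.Agent.ObsLiftLib.Lci

/-! Flat lifts of complete intersections along surjections. -/

set_option autoImplicit false
set_option backward.isDefEq.respectTransparency false
set_option backward.isDefEq.respectTransparency.types false
set_option linter.style.haveILetI false

universe u

open CategoryTheory AlgebraicGeometry ArtFun ArtFun.Art IsLocalRing
open scoped TensorProduct

noncomputable section

namespace Groth.Agent.ObsBoundLib

open LocHilbGlueLib TanHilbLib ObsLiftLib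

variable {k : Type u} [Field k] {R : Type u} [CommRing R] [Algebra k R] {A' A : Art k k} {p : A' ⟶ A}

/-- A flat deformation of a complete intersection lifts along any surjection. -/
theorem exists_flat_lift_of_regular (hp : Function.Surjective p) {J : Ideal (A ⊗[k] R)} (hJ : Module.Flat A ((A ⊗[k] R) ⧸ J)) (rs : List R)
    (hreg : RingTheory.Sequence.IsWeaklyRegular R rs) (hrs : J.map (l0 R A) = Ideal.ofList rs) :
    ∃ J' : Ideal (A' ⊗[k] R), J'.map (tmap R p.toAlgHom) = J ∧ Module.Flat A' ((A' ⊗[k] R) ⧸ J') := by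
  obtain ⟨gs, hgs, hgJ⟩ := exists_lifts (K := J) rs fun r hr => by
    rw [hrs]
    exact Ideal.subset_span hr
  have hJgs : J = Ideal.ofList gs := by
    refine le_antisymm (DeformLib.le_of_le_sup_nilpotent (isNilpotent_ker_l0 A) fun x hx => ?_)
      (Ideal.span_le.2 hgJ)
    have hx0 : l0 R A x ∈ Ideal.map (l0 R A).toRingHom (Ideal.ofList gs) := by
      rw [Ideal.map_ofList]
      show l0 R A x ∈ Ideal.ofList (gs.map (l0 R A))
      rw [hgs, ← hrs]
      exact Ideal.mem_map_of_mem _ hx
    obtain ⟨v, hv, he⟩ := (Ideal.mem_map_iff_of_surjective (l0 R A).toRingHom (l0_surjective A)).1 hx0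
    rw [← sub_add_cancel x v, add_comm]
    refine Submodule.add_mem_sup hv ?_
    haveI : Module.Flat A ((A ⊗[k] R) ⧸ J.restrictScalars A) := hJ
    have hm := HilbObsLib.mem_smul_of_flat (J.restrictScalars A) (maximalIdeal A)
      (x := x - v) (sub_mem hx (Ideal.span_le.2 hgJ hv))
      (mem_smul_of_l0_eq_zero (by rw [map_sub]; exact sub_eq_zero.2 he.symm))
    rw [← map_maximalIdeal_eq]
    refine Submodule.smul_induction_on hm (fun b hb w hw => ?_) (fun a b ha hb => add_mem ha hb)
    rw [Algebra.smul_def]
    exact Ideal.mul_mem_mul (Ideal.mem_map_of_mem _ hb) hw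
  choose f hf using fun g : A ⊗[k] R => tmap_surjective p.toAlgHom hp g
  let gs' := gs.map f
  have hl : gs'.map (l0 R A') = rs := by
    rw [← hgs, List.map_map]
    refine List.map_congr_left fun g _ => ?_
    show l0 R A' (f g) = l0 R A g
    rw [← l0_tmap p (f g), hf]
  refine ⟨Ideal.ofList gs', ?_, (flat_quot_ofList (ArtFunLib.isNilpotent_maximalIdeal A') gs'
    fun n hn x hx => ?_)⟩
  · rw [hJgs]
    show Ideal.map (tmap R p.toAlgHom).toRingHom _ = _
    rw [Ideal.map_ofList, List.map_map]
    congr 1
    exact (List.map_congr_left fun g _ => hf g).trans (List.map_id gs)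
  · rw [mem_sup_ker_iff, map_mul, List.map_take, hl] at hx
    rw [mem_sup_ker_iff, List.map_take, hl]
    have hn' : n < rs.length := by rw [← hl, List.length_map]; exact hn
    have hg : l0 R A' gs'[n] = rs[n] := by simp [← hl]
    rw [hg] at hx
    have hr := hreg.regular_mod_prev n hn'
    have he : (Ideal.ofList (rs.take n) • ⊤ : Submodule R R) = Ideal.ofList (rs.take n) := by simp
    have h0 : rs[n] • (Submodule.Quotient.mk (l0 R A' x) : R ⧸ (Ideal.ofList (rs.take n) • ⊤ : Submodule R R)) = 0 := by
      rw [← Submodule.Quotient.mk_smul, Submodule.Quotient.mk_eq_zero, he]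
      exact hx
    have h1 := hr (a₁ := Submodule.Quotient.mk (l0 R A' x)) (a₂ := 0) (h0.trans (smul_zero _).symm)
    rwa [Submodule.Quotient.mk_eq_zero, he] at h1

end Groth.Agent.ObsBoundLib
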