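import Groth.Agent.ObsBoundLib.Class
import Groth.Agent.ObsBoundLib.FlatLift
import Groth.Agent.TanHilbLib.Finite
import Groth.Agent.CohBase.Basic
import Groth.Prelude.Def_Coh
import Groth.Prelude.Def_Mor2

/-! The linear obstruction map to the first cohomology of the normal sheaf. -/

set_option autoImplicit false
set_option backward.isDefEq.respectTransparency false
set_option backward.isDefEq.respectTransparency.types false
set_option linter.style.haveILetI false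

universe u

open CategoryTheory CategoryTheory.Limits AlgebraicGeometry TopologicalSpace Opposite ArtFun ArtFun.Art
open scoped TensorProduct

noncomputable section

namespace Groth.Agent.ObsBoundLib

open LocHilbGlueLib TanHilbLib ObsLiftLib CohBase

theorem smulAb_comm {X : Scheme.{u}} {M N : X.Modules} (φ : M ⟶ N) (r : Coh.Γtop X) :
    Coh.smulAb M r ≫ (SheafOfModules.toSheaf X.ringCatSheaf).map φ =
      (SheafOfModules.toSheaf X.ringCatSheaf).map φ ≫ Coh.smulAb N r := by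
  ext U m
  exact Scheme.Modules.Hom.app_smul φ (U := U.unop) (Coh.resTop X U r) m

variable {k : Type u} [Field k] {Y Z : Scheme.{u}} {y : Y ⟶ specPt k} {i : Z ⟶ Y} [IsClosedImmersion i]
  {B A : Art k k} {q : B ⟶ A} (hq : IsSemismallExt q) {s : (localHilb Y y i.ker).obj A}
  {ι : Type u} (V : ι → Y.affineOpens)

theorem rN_smul {W W' : Z.Opens} (h : W' ≤ W) (a : Γ(Z, W)) (x : Γ(normal i, W)) :
    rN h (a • x) = Z.presheaf.map (homOfLE h).op a • rN h x :=
  (normal i).val.map_smul (homOfLE h).op a x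

theorem obs_add {proj : B →ₗ[k] kerQ q}
    {c : Module.Dual k (kerQ q) → ∀ a b, Γ(normal i, i ⁻¹ᵁ ((V a).1 ⊓ (V b).1))} (hobs : IsObs (y := y) V proj c)
    (l l' : Module.Dual k (kerQ q)) (a b : ι) : c (l + l') a b = c l a b + c l' a b := by
  refine rN_ext (O := (V a).1 ⊓ (V b).1) le_rfl fun U => ?_
  have hU := U.2
  rw [← rN_rN (i.preimage_mono hU) (W'' := i ⁻¹ᵁ ((V a).1 ⊓ (V b).1) ⊓ i ⁻¹ᵁ U.1.1) inf_le_right (c (l + l') a b),
    ← rN_rN (i.preimage_mono hU) (W'' := i ⁻¹ᵁ ((V a).1 ⊓ (V b).1) ⊓ i ⁻¹ᵁ U.1.1) inf_le_right (c l a b + c l' a b)]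
  congr 1
  refine val_ext i U.1.2 fun m => ?_
  letI := algV y U.1.1
  obtain ⟨z, hz⟩ := hobs a b U.1 (hU.trans inf_le_left) (hU.trans inf_le_right) m
  rw [hz, rN_add, val_add_left, hz, hz, LinearMap.add_comp, contr_add, map_add]

theorem obs_smul {proj : B →ₗ[k] kerQ q}
    {c : Module.Dual k (kerQ q) → ∀ a b, Γ(normal i, i ⁻¹ᵁ ((V a).1 ⊓ (V b).1))} (hobs : IsObs (y := y) V proj c)
    (r : k) (l : Module.Dual k (kerQ q)) (a b : ι) :
    c (r • l) a b = Z.presheaf.map (homOfLE (le_top : i ⁻¹ᵁ ((V a).1 ⊓ (V b).1) ≤ ⊤)).op (scal y i r) • c l a b := by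
  refine rN_ext (O := (V a).1 ⊓ (V b).1) le_rfl fun U => ?_
  have hU := U.2
  rw [← rN_rN (i.preimage_mono hU) (W'' := i ⁻¹ᵁ ((V a).1 ⊓ (V b).1) ⊓ i ⁻¹ᵁ U.1.1) inf_le_right (c (r • l) a b),
    ← rN_rN (i.preimage_mono hU) (W'' := i ⁻¹ᵁ ((V a).1 ⊓ (V b).1) ⊓ i ⁻¹ᵁ U.1.1) inf_le_right (_ • c l a b)]
  congr 1
  refine val_ext i U.1.2 fun m => ?_
  letI := algV y U.1.1
  obtain ⟨z, hz⟩ := hobs a b U.1 (hU.trans inf_le_left) (hU.trans inf_le_right) m
  rw [hz, rN_smul, val_smul_left, hz, LinearMap.smul_comp, contr_smul, Algebra.smul_def, map_mul]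
  congr 1
  refine (app_algR y i U.1.1 r).trans ?_
  show _ = (Z.presheaf.map _ ≫ Z.presheaf.map _) _
  rw [← Functor.map_comp]
  rfl

variable [Z.Over (Spec (CommRingCat.of k))] (hz : i ≫ y = Z ↘ Spec (CommRingCat.of k))
  [DCoh.HasSheafHom (Omega.conormal i)]

include hq hz in
/-- The obstruction of a semismall extension, linear in the functionals on its kernel. -/
theorem exists_ob (hV : ∀ z : Y, ∃ j, z ∈ (V j).1)
    (hK : ∀ j, letI := algV y (V j).1; ∃ K : Ideal (B ⊗[k] Γ(Y, (V j).1)),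
      K.map (tmap Γ(Y, (V j).1) q.toAlgHom) = JV y A (V j).2 s.1 ∧ Module.Flat B ((B ⊗[k] Γ(Y, (V j).1)) ⧸ K)) :
    ∃ ob : Module.Dual k (kerQ q) →ₗ[k] Coh.HH Z ((DCoh.sheafHom (Omega.conormal i)).obj (Coh.structureModule Z)) 1,
      ∀ l, l ≠ 0 → ob l = 0 → ∃ (B' : Art k k) (π : B ⟶ B') (p : B' ⟶ A), π ≫ p = q ∧ IsSmallExt p ∧
        (∃ x : kerQ q, π x.1 ≠ 0) ∧ ∃ s' : (localHilb Y y i.ker).obj B', (localHilb Y y i.ker).map p s' = s := by
  choose K hKm hKf using hK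
  obtain ⟨proj, c, hobs, hc⟩ := exists_obs hq V K hKm hKf
  let F : AbSh Z := Coh.toAb (normal i)
  let W : ι → Opens Z := fun j => i ⁻¹ᵁ (V j).1
  have hcov : ⊤ ≤ iSup W := fun z _ => by
    obtain ⟨j, hj⟩ := hV (i z)
    exact Opens.mem_iSup.mpr ⟨j, hj⟩
  have hcoc : ∀ l, (c l : ∀ a b, F.obj.obj (op (W a ⊓ W b))) ∈ H1ClassLib.pairs W F := fun l a b d => by
    by_cases hl : l = 0
    · subst hl
      have h0 : ∀ a b, (c 0 a b : Γ(normal i, i ⁻¹ᵁ ((V a).1 ⊓ (V b).1))) = 0 := fun a b => by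
        have h := obs_add V hobs 0 0 a b
        rw [add_zero] at h
        exact left_eq_add.1 h
      show rN _ (c 0 a b) + rN _ (c 0 b d) = rN _ (c 0 a d)
      rw [h0, h0, h0, rN_zero, rN_zero, rN_zero, add_zero]
    obtain ⟨P, L, v, -, hcl⟩ := hc l hl
    refine rN_ext (O := (V a).1 ⊓ (V b).1 ⊓ (V d).1) le_rfl fun U => ?_
    have ha : U.1.1 ≤ (V a).1 := U.2.trans (inf_le_left.trans inf_le_left)
    have hb : U.1.1 ≤ (V b).1 := U.2.trans (inf_le_left.trans inf_le_right)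
    have hd : U.1.1 ≤ (V d).1 := U.2.trans inf_le_right
    show rN _ (rN _ (c l a b) + rN _ (c l b d)) = rN _ (rN _ (c l a d))
    rw [rN_add, rN_rN, rN_rN, rN_rN, ← rN_rN (i.preimage_mono (le_inf ha hb)) inf_le_right,
      ← rN_rN (i.preimage_mono (le_inf hb hd)) inf_le_right, ← rN_rN (i.preimage_mono (le_inf ha hd)) inf_le_right,
      hcl a b U.1 ha hb, hcl b d U.1 hb hd, hcl a d U.1 ha hd, ← diff_add ((L a).res ha) ((L b).res hb) ((L d).res hd), rN_add]
  let cz : Module.Dual k (kerQ q) → H1ClassLib.pairs W F := fun l => ⟨c l, hcoc l⟩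
  obtain ⟨Φ, hΦ0, hΦn⟩ := H1ClassLib.exists_classPair W hcov F
  let g : Coh.toAb (normal i) ⟶ Coh.toAb ((DCoh.sheafHom (Omega.conormal i)).obj (Coh.structureModule Z)) :=
    (SheafOfModules.toSheaf Z.ringCatSheaf).map (normalIso i).hom
  let ob₀ : Module.Dual k (kerQ q) → Coh.HH Z ((DCoh.sheafHom (Omega.conormal i)).obj (Coh.structureModule Z)) 1 :=
    fun l => Sheaf.H.map g 1 ((HEquiv F 1).symm (Φ (cz l)))
  let ob : Module.Dual k (kerQ q) →ₗ[k] Coh.HH Z ((DCoh.sheafHom (Omega.conormal i)).obj (Coh.structureModule Z)) 1 :=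
    { toFun := ob₀
      map_add' := fun l l' => by
        have : cz (l + l') = cz l + cz l' := Subtype.ext (funext fun a => funext fun b => obs_add V hobs l l' a b)
        show Sheaf.H.map g 1 _ = Sheaf.H.map g 1 _ + Sheaf.H.map g 1 _
        rw [this, map_add, map_add, map_add]
      map_smul' := fun r l => by
        let f : F ⟶ F := Coh.smulAb (normal i) (Coh.toGlobal (Z ↘ Spec (CommRingCat.of k)) r)
        have h1 : Φ (cz (r • l)) = hmap (⊤ : Opens Z) f 1 (Φ (cz l)) := hΦn f _ _ fun a b => by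
          refine (obs_smul V hobs r l a b).trans ?_
          rw [scal, hz]
          rfl
        show Sheaf.H.map g 1 _ = Sheaf.H.map (Coh.smulAb _ (Coh.toGlobal (Z ↘ Spec (CommRingCat.of k)) r)) 1 (Sheaf.H.map g 1 _)
        have h2 : (HEquiv F 1).symm (hmap (⊤ : Opens Z) f 1 (Φ (cz l))) = Sheaf.H.map f 1 ((HEquiv F 1).symm (Φ (cz l))) := by
          apply (HEquiv F 1).injective
          rw [HEquiv_map, AddEquiv.apply_symm_apply, AddEquiv.apply_symm_apply]
        rw [h1, h2, ← Sheaf.H.map_comp_apply, ← Sheaf.H.map_comp_apply]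
        exact congrArg (fun t => Sheaf.H.map t 1 ((HEquiv F 1).symm (Φ (cz l))))
          (smulAb_comm (normalIso i).hom (Coh.toGlobal (Z ↘ Spec (CommRingCat.of k)) r)) }
  refine ⟨ob, fun l hl h0 => ?_⟩
  have hinv : ∀ x, Sheaf.H.map ((SheafOfModules.toSheaf Z.ringCatSheaf).map (normalIso i).inv) 1 (Sheaf.H.map g 1 x) = x :=
    fun x => by
      rw [← Sheaf.H.map_comp_apply, ← Functor.map_comp, (normalIso i).hom_inv_id, CategoryTheory.Functor.map_id,
        Sheaf.H.map_id_apply]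
  have hΦ : Φ (cz l) = 0 := by
    have h1 := hinv ((HEquiv F 1).symm (Φ (cz l)))
    rw [show Sheaf.H.map g 1 ((HEquiv F 1).symm (Φ (cz l))) = 0 from h0, map_zero] at h1
    rw [← (HEquiv F 1).apply_symm_apply (Φ (cz l)), ← h1, map_zero]
  obtain ⟨h, hh⟩ := hΦ0 _ hΦ
  obtain ⟨P, L, v, hv, hcl⟩ := hc l hl
  obtain ⟨s', hs'⟩ := exists_lift_of_coboundary V L hV (c l) hcl h (fun a b => hh a b)
  refine ⟨P.obj, P.π, P.p, P.comp, (ArtFunLib.isSmallExt_iff P.p).2 ⟨P.e.surj, P.e.t, P.e.ne, P.e.killed, P.e.ker⟩,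
    ⟨v, ?_⟩, s', hs'⟩
  rw [P.apply_ker, hv, one_smul]
  exact P.e.ne

include hq hz in
/-- The obstruction map for a complete intersection. -/
theorem exists_ob_lci (hreg : Mor2.IsRegularClosedImmersion i) (s : (localHilb Y y i.ker).obj A) :
    ∃ ob : Module.Dual k (kerQ q) →ₗ[k] Coh.HH Z ((DCoh.sheafHom (Omega.conormal i)).obj (Coh.structureModule Z)) 1,
      ∀ l, l ≠ 0 → ob l = 0 → ∃ (B' : Art k k) (π : B ⟶ B') (p : B' ⟶ A), π ≫ p = q ∧ IsSmallExt p ∧
        (∃ x : kerQ q, π x.1 ≠ 0) ∧ ∃ s' : (localHilb Y y i.ker).obj B', (localHilb Y y i.ker).map p s' = s := by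
  have key : ∀ z : Y, ∃ U : Y.affineOpens, z ∈ U.1 ∧ (letI := algV y U.1; ∃ K : Ideal (B ⊗[k] Γ(Y, U.1)),
      K.map (tmap Γ(Y, U.1) q.toAlgHom) = JV y A U.2 s.1 ∧ Module.Flat B ((B ⊗[k] Γ(Y, U.1)) ⧸ K)) := by
    intro z
    by_cases hzr : z ∈ Set.range i
    · obtain ⟨w, rfl⟩ := hzr
      obtain ⟨U, hU, hwU, rs, hrs, hker⟩ := hreg.2 w
      letI := algV y U
      exact ⟨⟨U, hU⟩, hwU, exists_flat_lift_of_regular hq.1 ((flatOver_iff y A s.1).1 s.2.1 U hU) rs hrs.toIsWeaklyRegular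
        ((TanHilbLib.map_l0_eq y i A s hU).trans ((Scheme.Hom.ker_apply i ⟨U, hU⟩).symm.trans hker))⟩
    · obtain ⟨U, hU, hzU, hle⟩ := exists_isAffineOpen_mem_and_subset
        (U := ⟨(Set.range i)ᶜ, i.isClosedEmbedding.isClosed_range.isOpen_compl⟩) (show z ∈ _ from hzr)
      letI := algV y U
      refine ⟨⟨U, hU⟩, hzU, exists_flat_lift_of_regular hq.1 ((flatOver_iff y A s.1).1 s.2.1 U hU) [1]
        ((RingTheory.Sequence.isWeaklyRegular_singleton_iff _ _).2 (IsSMulRegular.one _))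
        ((TanHilbLib.map_l0_eq y i A s hU).trans ?_)⟩
      haveI : Subsingleton Γ(Z, i ⁻¹ᵁ U) := CommRingCat.subsingleton_of_isTerminal (Z.sheaf.isTerminalOfEqEmpty (by
        ext w
        exact ⟨fun hw => (hle hw ⟨w, rfl⟩).elim, fun hw => hw.elim⟩))
      rw [Ideal.ofList_singleton, Ideal.span_singleton_one]
      exact eq_top_iff.2 fun r _ => RingHom.mem_ker.2 (Subsingleton.elim _ _)
  choose U hzU hK using key
  exact exists_ob hq U hz (fun z => ⟨z, hzU z⟩) hK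

end Groth.Agent.ObsBoundLib
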