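import Groth.Agent.ObsBoundLib.Dim
import Groth.Agent.ObsBoundLib.Ob
import Groth.Agent.TanHilbLib.Equiv

/-! The obstructions of the local Hilbert functor of a complete intersection. -/

set_option autoImplicit false
set_option backward.isDefEq.respectTransparency false
set_option backward.isDefEq.respectTransparency.types false
set_option linter.style.haveILetI false

universe u

open CategoryTheory CategoryTheory.Limits AlgebraicGeometry ArtFun ArtFun.Art

noncomputable section

namespace Groth.Agent.ObsBoundLib

variable {k : Type u} [Field k] {Y Z : Scheme.{u}} (y : Y ⟶ Spec (CommRingCat.of k)) (i : Z ⟶ Y) [IsClosedImmersion i]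
  [Z.Over (Spec (CommRingCat.of k))] (hz : i ≫ y = Z ↘ Spec (CommRingCat.of k)) [DCoh.HasSheafHom (Omega.conormal i)]

include hz in
theorem hasObs (hreg : Mor2.IsRegularClosedImmersion i) :
    HasObs (localHilb Y y i.ker) (Coh.HH Z ((DCoh.sheafHom (Omega.conormal i)).obj (Coh.structureModule Z)) 1) :=
  fun _ _ _ hq s => exists_ob_lci hq hz hreg s

include hz in
theorem finite_HH [IsLocallyNoetherian Y] [IsProper (Z ↘ Spec (CommRingCat.of k))] (n : ℕ) :
    Module.Finite k (Coh.HH Z ((DCoh.sheafHom (Omega.conormal i)).obj (Coh.structureModule Z)) n) :=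
  haveI : IsLocallyNoetherian Z := LocallyOfFiniteType.isLocallyNoetherian (Z ↘ Spec (CommRingCat.of k))
  S0002.result k Z _ (S9524.result Z (Omega.conormal i) (Coh.structureModule Z) (TanHilbLib.isCoh_conormal i)
    (DevLib.isCoh_structureModule Z)) n

include hz in
theorem finrank_cotangent_proRep (R : CRing k k) (ξ : Family R.carrier R.res (localHilb Y y i.ker)) (hξ : IsUniversal ξ) :
    Module.finrank (IsLocalRing.ResidueField R.carrier) (IsLocalRing.CotangentSpace R.carrier) =
      Module.finrank k (Coh.HH Z ((DCoh.sheafHom (Omega.conormal i)).obj (Coh.structureModule Z)) 0) := by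
  obtain ⟨T⟩ := ArtFunLib.nonempty_tangentStr (LocHilbGlueLib.h0 y i.ker)
    (fun B A' p' p'' hB => LocHilbGlueLib.cmp_bijective y i.ker hB LocHilbGlueLib.isSmallExt_dual)
  letI := T
  obtain ⟨e⟩ := TanHilbLib.nonempty_linearEquiv y i hz (rfl : i.ker = i.ker)
  rw [finrank_cotangent_eq R ξ hξ, e.finrank_eq]

end Groth.Agent.ObsBoundLib
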