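import Groth.Agent.ObsLiftLib.Alg
import Groth.Agent.ObsLiftLib.Lci
import Groth.Agent.DeformLib.NilpLocal

/-! Pushing a flat lift along a semismall extension out along a functional on the kernel. -/

set_option autoImplicit false
set_option backward.isDefEq.respectTransparency false
set_option backward.isDefEq.respectTransparency.types false
set_option linter.style.haveILetI false

universe u

open CategoryTheory AlgebraicGeometry ArtFun ArtFun.Art IsLocalRing
open scoped TensorProduct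

noncomputable section

namespace Groth.Agent.ObsBoundLib

open LocHilbGlueLib TanHilbLib ObsLiftLib

variable {k : Type u} [Field k] {B A : Art k k} (q : B ⟶ A)

/-- The kernel as a space of scalars. -/
abbrev kerQ : Submodule k B := (RingHom.ker q.toAlgHom).restrictScalars k

/-- A small extension through which `q` factors by the functional `l`. -/
structure Push (l : Module.Dual k (kerQ q)) : Type (u + 1) where
  obj : Art k k
  π : B ⟶ obj
  p : obj ⟶ A
  e : Small p
  comp : π ≫ p = q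
  apply_ker : ∀ x : kerQ q, π x.1 = l x • e.t

theorem mul_eq_res_smul (hq : IsSemismallExt q) {x : B} (hx : x ∈ kerQ q) (r : B) : r * x = B.res r • x := by
  rw [Algebra.smul_def]
  refine ArtFunLib.exists_lift_res (A := A) (f := q) B r x _ (fun m hm => ?_) (by simp)
  have : m * x ∈ maximalIdeal B * RingHom.ker q.toAlgHom := Ideal.mul_mem_mul hm hx
  rwa [hq.2] at this

theorem nonempty_push (hq : IsSemismallExt q) {l : Module.Dual k (kerQ q)} (hl : l ≠ 0) : Nonempty (Push q l) := by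
  obtain ⟨v, hv⟩ : ∃ v, l v = 1 := by
    obtain ⟨w, hw⟩ : ∃ w, l w ≠ 0 := by
      by_contra h
      push Not at h
      exact hl (LinearMap.ext h)
    exact ⟨(l w)⁻¹ • w, by rw [map_smul, smul_eq_mul, inv_mul_cancel₀ hw]⟩
  let K : Ideal B :=
    { carrier := {x | ∃ hx : x ∈ kerQ q, l ⟨x, hx⟩ = 0}
      zero_mem' := ⟨zero_mem _, map_zero l⟩
      add_mem' := by
        rintro a b ⟨ha, ha'⟩ ⟨hb, hb'⟩
        exact ⟨add_mem ha hb, (map_add l ⟨a, ha⟩ ⟨b, hb⟩).trans (by rw [ha', hb', add_zero])⟩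
      smul_mem' := by
        rintro r a ⟨ha, ha'⟩
        rw [smul_eq_mul, mul_eq_res_smul q hq ha]
        exact ⟨Submodule.smul_mem _ _ ha, (map_smul l (B.res r) ⟨a, ha⟩).trans (by rw [ha', smul_zero])⟩ }
  have hK : K ≤ RingHom.ker q.toAlgHom := fun x hx => hx.1
  have hKm : K ≤ maximalIdeal B := hK.trans (ArtFunLib.ker_le_maximalIdeal q)
  let π := quotMk B K hKm
  have hπ : ∀ x : kerQ q, π x.1 = l x • π v.1 := fun x => by
    show _ = l x • (π.toAlgHom v.1)
    rw [← map_smul]
    refine Ideal.Quotient.eq.2 ⟨sub_mem x.2 (Submodule.smul_mem _ _ v.2), ?_⟩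
    show l (x - l x • v) = 0
    rw [map_sub, map_smul, hv, smul_eq_mul, mul_one, sub_self]
  let p := quotFactor hKm q hK
  refine ⟨⟨quot B K hKm, π, p, ⟨π v.1, fun a => ?_, fun h => ?_, fun m hm => ?_, ?_⟩, quotMk_quotFactor hKm q hK, hπ⟩⟩
  · obtain ⟨b, rfl⟩ := hq.1 a
    exact ⟨π b, rfl⟩
  · obtain ⟨hv', h0⟩ := Ideal.Quotient.eq_zero_iff_mem.1 h
    rw [show (⟨v.1, hv'⟩ : kerQ q) = v from rfl, hv] at h0
    exact one_ne_zero h0
  · obtain ⟨b, rfl⟩ := Ideal.Quotient.mk_surjective m
    have hb : b ∈ maximalIdeal B := (ArtFunLib.apply_mem_maximalIdeal_iff π b).1 hm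
    show π.toAlgHom b * π.toAlgHom v.1 = 0
    rw [← map_mul, mul_eq_res_smul q hq v.2, (mem_maximalIdeal_iff B b).1 hb, zero_smul, map_zero]
  · refine le_antisymm (fun x hx => ?_) ((Ideal.span_singleton_le_iff_mem _).2 (show p (π v.1) = 0 from v.2))
    obtain ⟨b, rfl⟩ := Ideal.Quotient.mk_surjective x
    show π b ∈ Ideal.span {π v.1}
    rw [hπ ⟨b, hx⟩, Algebra.smul_def]
    exact Ideal.mul_mem_left _ _ (Ideal.mem_span_singleton_self _)

variable {q}
variable {R : Type u} [CommRing R] [Algebra k R]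

/-- Contraction of the first factor. -/
def contr (L : Module.Dual k B) : B ⊗[k] R →ₗ[k] R :=
  (TensorProduct.lid k R).toLinearMap ∘ₗ L.rTensor R

theorem contr_tmul (L : Module.Dual k B) (b : B) (r : R) : contr L (b ⊗ₜ r) = L b • r := rfl

theorem contr_add (L L' : Module.Dual k B) (z : B ⊗[k] R) : contr (L + L') z = contr L z + contr L' z := by
  simp [contr, LinearMap.rTensor_add]

theorem contr_smul (c : k) (L : Module.Dual k B) (z : B ⊗[k] R) : contr (c • L) z = c • contr L z := by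
  simp [contr, LinearMap.rTensor_smul]

theorem contr_smul_of_mem (hq : IsSemismallExt q) (L : Module.Dual k B) {b : B} (hb : b ∈ kerQ q) (y : B ⊗[k] R) :
    contr L (b • y) = L b • l0 R B y := by
  induction y using TensorProduct.induction_on with
  | zero => simp
  | tmul a r =>
    rw [TensorProduct.smul_tmul', smul_eq_mul, mul_comm, mul_eq_res_smul q hq hb, contr_tmul, l0_tmul,
      map_smul, smul_eq_mul, mul_comm, mul_smul]
  | add a c ha hc => simp only [smul_add, map_add, ha, hc]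

variable {l : Module.Dual k (kerQ q)} (P : Push q l)

theorem Push.surj (hq : IsSemismallExt q) (v : kerQ q) (hv : l v = 1) : Function.Surjective P.π := fun x => by
  obtain ⟨b, hb⟩ := hq.1 (P.p x)
  have h : x - P.π b ∈ RingHom.ker P.p.toAlgHom := by
    rw [RingHom.mem_ker, map_sub, sub_eq_zero]
    exact (hb.symm.trans (congrArg (fun f : B ⟶ A => f b) P.comp).symm)
  rw [P.e.ker] at h
  obtain ⟨c, hc⟩ := Ideal.mem_span_singleton'.1 h
  refine ⟨b + P.obj.res c • v.1, ?_⟩
  show P.π.toAlgHom _ = x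
  rw [map_add, map_smul, show P.π.toAlgHom v.1 = l v • P.e.t from P.apply_ker v, hv, one_smul, ← P.e.t_mul, mul_comm, hc,
    add_sub_cancel]

theorem Push.tmap_eq (hq : IsSemismallExt q) (L : Module.Dual k B) (hL : ∀ x : kerQ q, L x.1 = l x)
    {z : B ⊗[k] R} (hz : tmap R q.toAlgHom z = 0) : tmap R P.π.toAlgHom z = P.e.tc R (contr L z) := by
  refine Submodule.smul_induction_on (mem_smul_of_tmap_eq_zero q.toAlgHom hq.1 hz) (fun b hb y _ => ?_) (fun a b ha hb => ?_)
  · rw [tmap_smul, contr_smul_of_mem hq L hb, show P.π.toAlgHom b = l ⟨b, hb⟩ • P.e.t from P.apply_ker ⟨b, hb⟩,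
      smul_assoc, P.e.t_smul, ← hL ⟨b, hb⟩, l0_tmap]
    exact (TensorProduct.tmul_smul _ _ _).symm
  · rw [map_add, ha, hb, map_add]
    exact (TensorProduct.tmul_add _ _ _).symm

variable {J : Ideal (A ⊗[k] R)} {K : Ideal (B ⊗[k] R)}

theorem Push.tmap_comp (w : B ⊗[k] R) : tmap R P.p.toAlgHom (tmap R P.π.toAlgHom w) = tmap R q.toAlgHom w := by
  rw [LocHilbGlueLib.tmap_comp]
  congr 1
  exact congrArg Art.Hom.toAlgHom P.comp |>.symm ▸ rfl

theorem Push.isLift (hq : IsSemismallExt q) (v : kerQ q) (hv : l v = 1) (hmap : K.map (tmap R q.toAlgHom) = J)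
    (hflat : Module.Flat B ((B ⊗[k] R) ⧸ K)) : IsLift P.e J (K.map (tmap R P.π.toAlgHom)) := by
  refine ⟨?_, fun c hc => ?_⟩
  · rw [← hmap, Ideal.map_mapₐ]
    exact congrArg (fun g : B ⊗[k] R →ₐ[k] A ⊗[k] R => K.map g) (AlgHom.ext P.tmap_comp)
  obtain ⟨w, hw, hwe⟩ := (Ideal.mem_map_iff_of_surjective _ (tmap_surjective P.π.toAlgHom (P.surj hq v hv))).1 hc
  have hw0 : tmap R q.toAlgHom w = 0 := by rw [← P.tmap_comp, hwe, P.e.tmap_tc]
  obtain ⟨proj, hproj⟩ := (kerQ q).subtype.exists_leftInverse_of_injective (kerQ q).ker_subtype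
  let L : Module.Dual k B := l ∘ₗ proj
  have hL : ∀ x : kerQ q, L x.1 = l x := fun x => congrArg l (LinearMap.congr_fun hproj x)
  rw [P.tmap_eq hq L hL hw0] at hwe
  obtain ⟨μ, hμ⟩ := (LinearMap.toSpanSingleton k P.obj P.e.t).exists_leftInverse_of_injective
    (LinearMap.ker_eq_bot.2 (smul_left_injective k P.e.ne))
  have hμ' : μ P.e.t = 1 := by
    have := LinearMap.congr_fun hμ 1
    simpa using this
  have hcL : contr L w = c := by
    have := congrArg ((TensorProduct.lid k R).toLinearMap ∘ₗ μ.rTensor R) hwe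
    simpa [Small.tc, hμ'] using this
  rw [← hcL]
  haveI : Module.Flat B ((B ⊗[k] R) ⧸ K.restrictScalars B) := hflat
  have hm := HilbObsLib.mem_smul_of_flat (K.restrictScalars B) (RingHom.ker q.toAlgHom) hw
    (mem_smul_of_tmap_eq_zero q.toAlgHom hq.1 hw0)
  refine Submodule.smul_induction_on hm (fun b hb u hu => ?_) (fun a b ha hb => by rw [map_add]; exact add_mem ha hb)
  rw [contr_smul_of_mem hq L hb, Algebra.smul_def, ← map_l0_eq (p := q) hmap]
  exact Ideal.mul_mem_left _ _ (Ideal.mem_map_of_mem _ hu)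

end Groth.Agent.ObsBoundLib
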